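import Cfsg.Agent.Lib.ExtPrimAffine.Vector
import Cfsg.Agent.Lib.Frobenius.Theorem

/-!
The socle of an insoluble group with core-free maximal vector stabilisers is simple.
-/

set_option autoImplicit false
set_option linter.style.haveILetI false
set_option linter.unusedSectionVars false

namespace CfsgLib.ExtPrimAffine

open MulAction Subgroup
open scoped Pointwise

universe u

variable {H : Type u} [Group H] [Finite H] {W : Type u} [AddCommGroup W] [Finite W]
  [DistribMulAction H W]

namespace Factor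

variable {M N₁ : Subgroup H}

/-- A minimal `M`-invariant subgroup of a minimal normal subgroup generates it with its
conjugates, so it is simple. -/
theorem isSimple (f : Factor M N₁) (hMmin : ∀ K : Subgroup H, K.Normal → K ≤ M → K = ⊥ ∨ K = M) :
    (M ≤ ⨆ T : {T : Subgroup H // IsFactor N₁ T}, (T : Subgroup H)) ∧ IsSimpleGroup N₁ := by
  set J := ⨆ T : {T : Subgroup H // IsFactor N₁ T}, (T : Subgroup H) with hJ
  have hJn : J.Normal := by
    refine ⟨fun y hy x => ?_⟩
    have hle : J ≤ J.comap (MulAut.conj x).toMonoidHom := iSup_le fun T y hy =>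
      le_iSup (fun T : {T : Subgroup H // IsFactor N₁ T} => (T : Subgroup H))
        ⟨_, f.conj_factor T.2 x⟩ ⟨y, hy, rfl⟩
    exact hle hy
  have hJM : J = M := by
    rcases hMmin J hJn (iSup_le fun T => (f.of_factor T.2).le) with h1 | h1
    · exact absurd (le_bot_iff.1 (h1 ▸ le_iSup (fun T : {T : Subgroup H // IsFactor N₁ T} => (T : Subgroup H))
        ⟨N₁, f.self⟩)) f.ne
    · exact h1
  refine ⟨hJM.ge, ?_⟩
  haveI : Nontrivial N₁ := (Subgroup.nontrivial_iff_ne_bot N₁).2 f.ne
  refine ⟨fun L hL => ?_⟩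
  set L' := L.map N₁.subtype with hL'
  have hle : L' ≤ N₁ := map_subtype_le L
  have hn : M ≤ normalizer (L' : Set H) := by
    rw [← hJM]
    refine iSup_le fun T => ?_
    by_cases hT : (T : Subgroup H) = N₁
    · rw [hT]
      intro n hn'
      refine Subgroup.mem_normalizer_fintype ?_
      rintro _ ⟨l, hl, rfl⟩
      exact ⟨⟨n, hn'⟩ * l * ⟨n, hn'⟩⁻¹, hL.conj_mem l hl _, rfl⟩
    · intro t ht
      apply Subgroup.centralizer_le_normalizer
      intro l hl
      exact f.commute f.self T.2 (Ne.symm hT) l (hle hl) t ht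
  rcases f.min L' hle hn with h1 | h1
  · exact Or.inl ((Subgroup.map_eq_bot_iff_of_injective _ N₁.subtype_injective).1 h1)
  · refine Or.inr (Subgroup.eq_top_iff' L |>.2 fun x => ?_)
    obtain ⟨l, hl, hlx⟩ := h1.ge x.2
    exact Subtype.ext hlx ▸ hl

end Factor

namespace Hyp

variable (h : Hyp H W)
include h

theorem almost_simple [Nontrivial W]
    (hFT : ∀ (X : Type u) [Group X] [Finite X], Odd (Nat.card X) → Group.IsSolvable X)
    (hns : ¬ Group.IsSolvable H) :
    ∃ T : Subgroup H, T.Normal ∧ IsSimpleGroup T ∧ ¬ IsMulCommutative T ∧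
      centralizer (T : Set H) = ⊥ := by
  haveI : Finite (Subgroup H) := Finite.of_injective _ SetLike.coe_injective
  haveI := Fact.mk Nat.prime_two
  haveI hH : Nontrivial H := by
    by_contra hc
    rw [not_nontrivial_iff_subsingleton] at hc
    exact hns inferInstance
  -- a minimal normal subgroup
  obtain ⟨M, ⟨hMn, hMne⟩, hMle⟩ := Set.exists_min_image {N : Subgroup H | N.Normal ∧ N ≠ ⊥}
    (fun N => Nat.card N) (Set.toFinite _) ⟨⊤, inferInstance, fun h => bot_ne_top h.symm⟩
  have hMmin : ∀ K : Subgroup H, K.Normal → K ≤ M → K = ⊥ ∨ K = M := fun K hK hKM =>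
    or_iff_not_imp_left.2 fun hne => Subgroup.eq_of_le_of_card_ge hKM (hMle K ⟨hK, hne⟩)
  -- a minimal invariant subgroup of it
  obtain ⟨N₁, ⟨hN₁M, hN₁ne, hN₁inv⟩, hN₁min⟩ := Set.exists_min_image
    {N : Subgroup H | N ≤ M ∧ N ≠ ⊥ ∧ M ≤ normalizer (N : Set H)}
    (fun N => Nat.card N) (Set.toFinite _) ⟨M, le_rfl, hMne, Subgroup.le_normalizer⟩
  have f : Factor M N₁ := ⟨hMn, hN₁M, hN₁ne, hN₁inv, fun L hL hLn => or_iff_not_imp_left.2 fun hne =>
    Subgroup.eq_of_le_of_card_ge hL (hN₁min L ⟨hL.trans hN₁M, hne, hLn⟩)⟩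
  obtain ⟨hgen, hsimple⟩ := f.isSimple hMmin
  haveI := hsimple
  have hnab : ¬ ∀ a ∈ N₁, ∀ b ∈ N₁, a * b = b * a := by
    intro hab
    refine hns (h.solvable_of_abelian hMn hMne ?_)
    have hcomm : ∀ T T' : Subgroup H, IsFactor N₁ T → IsFactor N₁ T' → T ≤ centralizer (T' : Set H) := by
      intro T T' hT hT' a ha b hb
      by_cases hTT : T = T'
      · subst hTT
        obtain ⟨x, rfl⟩ := hT
        obtain ⟨a, ha, rfl⟩ := ha
        obtain ⟨b, hb, rfl⟩ := hb
        rw [← map_mul, ← map_mul, hab b hb a ha]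
      · exact (f.commute hT hT' hTT a ha b hb).symm
    have h1 : M ≤ centralizer (M : Set H) := by
      refine hgen.trans (iSup_le fun T => ?_)
      rw [le_centralizer_iff]
      refine hgen.trans (iSup_le fun T' => ?_)
      exact hcomm T' T T'.2 T.2
    exact fun a ha b hb => (h1 hb a ha)
  have heven : Even (Nat.card N₁) := by
    rw [← Nat.not_odd_iff_even]
    intro hodd
    exact hnab fun a ha b hb => congrArg Subtype.val
      ((IsSimpleGroup.comm_iff_isSolvable (G := N₁)).2 (hFT N₁ hodd) ⟨a, ha⟩ ⟨b, hb⟩)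
  have hMeven : Even (Nat.card M) :=
    even_iff_two_dvd.2 ((even_iff_two_dvd.1 heven).trans (Subgroup.card_dvd_of_le hN₁M))
  by_cases hone : ∀ T, IsFactor N₁ T → T = N₁
  · have hMN : M = N₁ := le_antisymm (hgen.trans (iSup_le fun T => (hone T T.2).le)) hN₁M
    refine ⟨N₁, hMN ▸ hMn, hsimple, fun hc => hnab fun a ha b hb =>
      congrArg Subtype.val (hc.is_comm.comm (⟨a, ha⟩ : N₁) ⟨b, hb⟩), ?_⟩
    exact hMN ▸ h.centralizer_eq_bot hMn hMeven
  · exfalso
    push Not at hone
    obtain ⟨T₂, hT₂, hne⟩ := hone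
    have h12 : N₁ ≠ T₂ := hne.symm
    obtain ⟨s, hs⟩ := exists_prime_orderOf_dvd_card' (G := N₁) 2 (even_iff_two_dvd.1 heven)
    rw [← Subgroup.orderOf_coe] at hs
    obtain ⟨v, hv, hsv⟩ := h.exists_fixed (t := (s : H)) (by rw [← sq, ← hs, pow_orderOf_eq_one])
    set R := (stabilizer H v).subgroupOf N₁ with hR
    have hRtop : R ≠ ⊤ := fun ht =>
      h.not_le_stabilizer f f.self hv (Subgroup.subgroupOf_eq_top.1 ht)
    have hRbot : R ≠ ⊥ := fun hb => by
      have hm : s ∈ R := hsv
      rw [hb, mem_bot] at hm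
      rw [hm, OneMemClass.coe_one, orderOf_one] at hs
      exact absurd hs (by norm_num)
    -- normalisers of nontrivial subgroups of R
    have hgood : ∀ Y : Subgroup N₁, Y ≤ R → Y ≠ ⊥ → normalizer (Y : Set N₁) ≤ R := by
      intro Y hY hYne g hg
      refine h.good f f.self hT₂ h12 (v := v) (Y := Y.map N₁.subtype)
        (le_inf ((Subgroup.map_mono hY).trans (by rw [hR, Subgroup.subgroupOf_map_subtype]; exact inf_le_left))
          (map_subtype_le Y))
        (fun hb => hYne ((Subgroup.map_eq_bot_iff_of_injective _ N₁.subtype_injective).1 hb))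
        g g.2 ?_
      refine Subgroup.mem_normalizer_fintype ?_
      rintro _ ⟨y, hy, rfl⟩
      exact ⟨g * y * g⁻¹, (Subgroup.mem_normalizer_iff.1 hg y).1 hy, rfl⟩
    have hgood' : ∀ (c : N₁) (Y : Subgroup N₁), Y ≤ MulAut.conj c • R → Y ≠ ⊥ →
        normalizer (Y : Set N₁) ≤ MulAut.conj c • R := by
      intro c Y hY hYne g hg
      rw [Subgroup.mem_pointwise_smul_iff_inv_smul_mem]
      refine hgood (Y.map (MulAut.conj c⁻¹).toMonoidHom) ?_ ?_ ?_
      · rintro _ ⟨y, hy, rfl⟩
        have := hY hy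
        rw [Subgroup.mem_pointwise_smul_iff_inv_smul_mem] at this
        simpa using this
      · exact fun hb => hYne ((Subgroup.map_eq_bot_iff_of_injective _ (MulAut.conj c⁻¹).injective).1 hb)
      · rw [← Subgroup.map_equiv_normalizer_eq]
        exact ⟨g, hg, by simp⟩
    have hfrob : Cfsg.IsFrobeniusComplement R := by
      refine ⟨hRbot, hRtop, fun c hc => ?_⟩
      by_contra hne'
      obtain ⟨p, hp, hpd⟩ := Nat.exists_prime_and_dvd
        (fun h1 => hne' (Subgroup.card_eq_one.1 h1) : Nat.card (R ⊓ MulAut.conj c • R : Subgroup N₁) ≠ 1)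
      haveI := Fact.mk hp
      set I := R ⊓ MulAut.conj c • R with hI
      obtain ⟨P⟩ : Nonempty (Sylow p I) := inferInstance
      set X := (P : Subgroup I).map I.subtype with hX
      have hXI : X ≤ I := map_subtype_le _
      have hXne : X ≠ ⊥ := fun hb =>
        P.ne_bot_of_dvd_card hpd ((Subgroup.map_eq_bot_iff_of_injective _ I.subtype_injective).1 hb)
      have hNX : normalizer (X : Set N₁) ≤ I :=
        le_inf (hgood X (hXI.trans inf_le_left) hXne) (hgood' c X (hXI.trans inf_le_right) hXne)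
      -- `X` is a Sylow subgroup of the factor
      obtain ⟨Q, hQ⟩ := (P.isPGroup'.map I.subtype).exists_le_sylow
      have hXQ : X = (Q : Subgroup N₁) := by
        rcases eq_or_lt_of_le (hQ : X ≤ Q) with h1 | hlt
        · exact h1
        exfalso
        haveI := Q.isPGroup'.isNilpotent
        have hlt' : X.subgroupOf (Q : Subgroup N₁) < ⊤ :=
          lt_top_iff_ne_top.2 (fun ht => hlt.not_ge (Subgroup.subgroupOf_eq_top.1 ht))
        obtain ⟨y, hy, hyX⟩ := SetLike.exists_of_lt (Group.normalizerCondition_of_isNilpotent _ hlt')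
        have hyN : (y : N₁) ∈ normalizer (X : Set N₁) := by
          refine Subgroup.mem_normalizer_fintype fun z hz => ?_
          exact (Subgroup.mem_normalizer_iff.1 hy ⟨z, hlt.le hz⟩).1 hz
        have hyI := hNX hyN
        set X' := X ⊔ zpowers (y : N₁) with hX'
        have hX'I : X' ≤ I := sup_le hXI (zpowers_le.2 hyI)
        have hX'p : IsPGroup p X' := Q.isPGroup'.to_le (sup_le hlt.le (zpowers_le.2 y.2))
        have hle' : (P : Subgroup I) ≤ X'.subgroupOf I := fun z hz =>
          mem_sup_left (mem_map_of_mem I.subtype hz)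
        have heq := P.is_maximal' (hX'p.of_equiv (subgroupOfEquivOfLe hX'I).symm) hle'
        have hym : (⟨(y : N₁), hyI⟩ : I) ∈ (P : Subgroup I) := by
          rw [← heq]
          exact mem_sup_right (mem_zpowers _)
        exact hyX ⟨_, hym, rfl⟩
      -- two Sylow subgroups of R
      have hQR : (Q : Subgroup N₁) ≤ R := hXQ ▸ hXI.trans inf_le_left
      have hQR' : ((c⁻¹ • Q : Sylow p N₁) : Subgroup N₁) ≤ R := by
        intro z hz
        rw [Sylow.coe_subgroup_smul, Subgroup.mem_pointwise_smul_iff_inv_smul_mem] at hz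
        have h2 : MulAut.conj c • z ∈ MulAut.conj c • R := by
          have h3 := hXI (hXQ ▸ hz : (MulAut.conj c⁻¹)⁻¹ • z ∈ X)
          rw [map_inv, inv_inv] at h3
          exact h3.2
        exact Subgroup.smul_mem_pointwise_smul_iff.1 h2
      obtain ⟨r, hr⟩ := MulAction.exists_smul_eq R (Q.subtype hQR) ((c⁻¹ • Q).subtype hQR')
      rw [Sylow.smul_subtype] at hr
      · have h4 := Sylow.subtype_injective hr
        have h5 : (c * (r : N₁)) • Q = Q := by
          rw [mul_smul, show (r : N₁) • Q = c⁻¹ • Q from h4, smul_inv_smul]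
        have h6 := hgood _ hQR (hXQ ▸ hXne) (Sylow.smul_eq_iff_mem_normalizer.1 h5)
        exact hc ((R.mul_mem_cancel_right r.2).1 h6)
    obtain ⟨K, -, hKn, hKc⟩ := CfsgLib.Frobenius.exists_kernel_subgroup hfrob
    rcases hKn.eq_bot_or_eq_top with hK | hK
    · exact hRtop (Subgroup.isComplement'_bot_left.1 (hK ▸ hKc))
    · exact hRbot (Subgroup.isComplement'_top_left.1 (hK ▸ hKc))

end Hyp

end CfsgLib.ExtPrimAffine
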