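import Cfsg.Agent.Lib.ExtPrimAffine.AlmostSimple
import Cfsg.Agent.Lib.Recog.ExtremelyPrimitive

/-!
Insoluble extremely primitive groups of affine type, given solvability in odd order.
-/

set_option autoImplicit false
set_option linter.style.haveILetI false
set_option linter.unusedSectionVars false

namespace CfsgLib.ExtPrimAffine

open MulAction Subgroup
open scoped Pointwise

universe u v

variable {G : Type u} [Group G]

/-- A subgroup acting on a normal abelian subgroup by conjugation. -/
@[reducible] noncomputable def conjAct (H N : Subgroup G) [N.Normal]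
    (hN : ∀ a b : N, a * b = b * a) :
    letI : AddCommGroup (Additive N) :=
      @Additive.addCommGroup N { (inferInstance : Group N) with mul_comm := hN }
    DistribMulAction H (Additive N) :=
  letI : AddCommGroup (Additive N) :=
    @Additive.addCommGroup N { (inferInstance : Group N) with mul_comm := hN }
  { smul := fun h x => Additive.ofMul (MulAut.conjNormal (h : G) (Additive.toMul x))
    one_smul := fun x => by
      show Additive.ofMul (MulAut.conjNormal ((1 : H) : G) (Additive.toMul x)) = x
      rw [OneMemClass.coe_one, map_one, MulAut.one_apply, ofMul_toMul]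
    mul_smul := fun a b x => by
      show Additive.ofMul (MulAut.conjNormal ((a * b : H) : G) (Additive.toMul x)) = _
      rw [Subgroup.coe_mul, map_mul, MulAut.mul_apply]
      rfl
    smul_zero := fun h => by
      show Additive.ofMul (MulAut.conjNormal (h : G) 1) = _
      rw [map_one]
      rfl
    smul_add := fun h x y => by
      show Additive.ofMul (MulAut.conjNormal (h : G) (Additive.toMul x * Additive.toMul y)) = _
      rw [map_mul]
      rfl }

variable [Finite G] {Ω : Type v} [Fintype Ω] [MulAction G Ω] [FaithfulSMul G Ω]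

theorem insoluble_extremely_primitive_affine
    (hFT : ∀ (X : Type u) [Group X] [Finite X], Odd (Nat.card X) → Group.IsSolvable X)
    (p d : ℕ) (hp : p.Prime) (hcard : Fintype.card Ω = p ^ d) (hsol : ¬ Group.IsSolvable G)
    (N : Subgroup G) [hNn : N.Normal] (hN : N ≠ ⊥) (hNc : IsMulCommutative N)
    (hNreg : ∀ ω : Ω, MulAction.stabilizer N ω = ⊥)
    (hprim : MulAction.IsPreprimitive G Ω) (hH : ∀ α : Ω, MulAction.stabilizer G α ≠ ⊥)
    (hep : ∀ (α : Ω) (ω : Ω),
      MulAction.IsPreprimitive (MulAction.stabilizer G α) (MulAction.orbit (MulAction.stabilizer G α) ω))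
    (α : Ω) :
    p = 2 ∧ ∃ T : Subgroup (MulAction.stabilizer G α), T.Normal ∧ IsSimpleGroup T ∧
      ¬ IsMulCommutative T ∧ Subgroup.centralizer (T : Set (MulAction.stabilizer G α)) = ⊥ := by
  classical
  haveI := Fact.mk Nat.prime_two
  set H := stabilizer G α with hHdef
  have hcom : ∀ a b : N, a * b = b * a := fun a b => hNc.is_comm.comm a b
  haveI htr := CfsgLib.Recog.normal_transitive (Ω := Ω) hprim N hN
  have hfree : ∀ n ∈ N, n • α = α → n = 1 := fun n hn hnα => by
    have hm : (⟨n, hn⟩ : N) ∈ stabilizer N α := hnα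
    rw [hNreg α, Subgroup.mem_bot] at hm
    exact congrArg Subtype.val hm
  have hpow : ∀ n ∈ N, n ^ p = 1 := by
    obtain ⟨q, hq, hqe, e, he, hNq⟩ := CfsgLib.Recog.abelian_normal_exponent hprim N hN hNc
    have hNΩ : Nat.card N = Fintype.card Ω := by
      rw [← Nat.card_eq_fintype_card]
      exact Nat.card_eq_of_bijective (fun n : N => (n : G) • α)
        ⟨fun a b hab => by
          have h1 := hfree _ (N.mul_mem (N.inv_mem b.2) a.2) (by
            rw [mul_smul, show (a : G) • α = (b : G) • α from hab, inv_smul_smul])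
          exact Subtype.ext (inv_mul_eq_one.1 h1).symm,
        fun ω => htr.exists_smul_eq α ω⟩
    have hqp : q = p := by
      rw [hNq, hcard] at hNΩ
      exact (Nat.prime_dvd_prime_iff_eq hq hp).1 (hq.dvd_of_dvd_pow (hNΩ ▸ dvd_pow_self q he.ne'))
    exact hqp ▸ hqe
  -- the quotient by `N` is the stabiliser
  have hdec : ∀ g : G, ∃ n ∈ N, n⁻¹ * g ∈ H := fun g => by
    obtain ⟨n, hn⟩ := htr.exists_smul_eq α (g • α)
    refine ⟨n, n.2, ?_⟩
    rw [hHdef, mem_stabilizer_iff, mul_smul, ← hn]
    exact inv_smul_smul (n : G) α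
  have hHns : ¬ Group.IsSolvable H := by
    intro hs
    apply hsol
    haveI := hs
    haveI : Group.IsSolvable N := Group.isSolvable_of_comm hcom
    haveI : Group.IsSolvable (G ⧸ N) := by
      refine Group.isSolvable_of_surjective (f := (QuotientGroup.mk' N).comp H.subtype) fun x => ?_
      obtain ⟨g, rfl⟩ := QuotientGroup.mk'_surjective N x
      obtain ⟨n, hn, hnh⟩ := hdec g
      refine ⟨⟨_, hnh⟩, ?_⟩
      show QuotientGroup.mk' N (n⁻¹ * g) = _
      rw [map_mul, map_inv, show QuotientGroup.mk' N n = 1 from (QuotientGroup.eq_one_iff n).2 hn,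
        inv_one, one_mul]
    exact (Group.isSolvable_iff_subgroup_quotient N).2 ⟨inferInstance, inferInstance⟩
  -- vector stabilisers
  have hconj : ∀ (h : H) (n : G), (h : G) • n • α = ((h : G) * n * (h : G)⁻¹) • α := fun h n => by
    rw [mul_smul, mul_smul, show (h : G)⁻¹ • α = α from
      inv_smul_eq_iff.2 (mem_stabilizer_iff.1 h.2).symm]
  have hmoved : ∀ n : N, n ≠ 1 → (n : G) • α ≠ α := fun n hn hα =>
    hn (Subtype.ext (hfree n n.2 hα))
  have hstab : ∀ (h : H) (n : N), MulAut.conjNormal (h : G) n = n ↔
      h ∈ stabilizer H ((n : G) • α) := by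
    intro h n
    rw [mem_stabilizer_iff]
    show _ ↔ (h : G) • (n : G) • α = (n : G) • α
    rw [hconj, ← MulAut.conjNormal_apply]
    refine ⟨fun he => by rw [he], fun he => Subtype.ext ?_⟩
    have h1 := hfree _ (N.mul_mem (N.inv_mem n.2) (MulAut.conjNormal (h : G) n).2) (by
      rw [mul_smul, he, inv_smul_smul])
    exact (inv_mul_eq_one.1 h1).symm
  have hcore : ∀ (K : Subgroup H), K.Normal → ∀ n : N, n ≠ 1 →
      K ≤ stabilizer H ((n : G) • α) → K = ⊥ := by
    intro K hK n hn hle
    rw [Subgroup.eq_bot_iff_forall]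
    intro k hk
    refine Subtype.ext (CfsgLib.Recog.faithful_on_suborbit hprim (hH α) (hep α)
      (hmoved n hn) k.2 ?_)
    rintro _ ⟨x, rfl⟩
    have h1 := mem_stabilizer_iff.1 (hle (hK.conj_mem k hk x⁻¹))
    rw [inv_inv, mul_smul, mul_smul, inv_smul_eq_iff] at h1
    exact h1
  have hcoatom : ∀ n : N, n ≠ 1 → IsCoatom (stabilizer H ((n : G) • α)) := by
    intro n hn
    set ω := (n : G) • α with hω
    haveI := hep α ω
    obtain ⟨h, hh, hhω⟩ := CfsgLib.Recog.exists_moved hprim (hH α) (hmoved n hn)
    haveI := CfsgLib.Recog.nontrivial_suborbit hh hhω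
    have h1 := IsPreprimitive.isCoatom_stabilizer_of_isPreprimitive H
      (⟨ω, mem_orbit_self ω⟩ : orbit H ω)
    have h2 : stabilizer H (⟨ω, mem_orbit_self ω⟩ : orbit H ω) = stabilizer H ω := by
      ext x
      rw [mem_stabilizer_iff, mem_stabilizer_iff, Subtype.ext_iff]
      rfl
    rwa [h2] at h1
  have hp2 : p = 2 := by
    by_contra hne
    have heven : 2 ∣ Nat.card H := by
      by_contra hd
      exact hHns (hFT H (Nat.not_even_iff_odd.1 fun he => hd (even_iff_two_dvd.1 he)))
    obtain ⟨t, ht⟩ := exists_prime_orderOf_dvd_card' 2 heven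
    have htt : (t : G) * t = 1 := by
      rw [← Subgroup.coe_mul, ← sq, show t ^ 2 = 1 by rw [← ht, pow_orderOf_eq_one], OneMemClass.coe_one]
    obtain ⟨w, hw⟩ : ∃ w : N, MulAut.conjNormal (t : G) w ≠ w := by
      by_contra hc
      push Not at hc
      have htN : (t : G) ∈ N := by
        rw [← CfsgLib.Recog.centralizer_eq_self hprim N hN hNc]
        intro n hn
        have h1 := congrArg Subtype.val (hc ⟨n, hn⟩)
        rw [MulAut.conjNormal_apply] at h1
        exact (mul_inv_eq_iff_eq_mul.1 h1).symm
      have : t = 1 := Subtype.ext (hfree _ htN t.2)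
      rw [this, orderOf_one] at ht
      exact absurd ht (by norm_num)
    set v := MulAut.conjNormal (t : G) w * w⁻¹ with hv
    have hv1 : v ≠ 1 := fun h => hw (mul_inv_eq_one.1 h)
    have hinv : MulAut.conjNormal (t : G) v = v⁻¹ := by
      rw [hv, map_mul, map_inv, ← MulAut.mul_apply, ← map_mul, htt, map_one, MulAut.one_apply,
        mul_inv_rev, inv_inv]
    have hvv : v⁻¹ ≠ v := by
      intro h
      have h1 : (v : G) ^ 2 = 1 := by
        rw [sq, ← Subgroup.coe_mul]
        nth_rw 1 [← h]
        rw [inv_mul_cancel, OneMemClass.coe_one]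
      refine hv1 (Subtype.ext (orderOf_eq_one_iff.1 (Nat.eq_one_of_dvd_coprimes
        ((Nat.coprime_primes Nat.prime_two hp).2 (Ne.symm hne)) (orderOf_dvd_of_pow_eq_one h1)
        (orderOf_dvd_of_pow_eq_one (hpow v v.2)))))
    clear_value v
    let K : Subgroup H :=
      { carrier := {h | MulAut.conjNormal (h : G) v = v ∨ MulAut.conjNormal (h : G) v = v⁻¹}
        one_mem' := Or.inl (by rw [OneMemClass.coe_one, map_one, MulAut.one_apply])
        mul_mem' := fun {a b} ha hb => by
          simp only [Set.mem_setOf_eq, Subgroup.coe_mul, map_mul, MulAut.mul_apply]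
          rcases hb with hb | hb
          · rw [hb]; exact ha
          · rw [hb, map_inv]
            rcases ha with ha | ha
            · exact Or.inr (by rw [ha])
            · exact Or.inl (by rw [ha, inv_inv])
        inv_mem' := fun {a} ha => by
          simp only [Set.mem_setOf_eq, Subgroup.coe_inv, map_inv]
          rcases ha with ha | ha
          · exact Or.inl (by rw [MulAut.inv_def]; exact (MulEquiv.symm_apply_eq _).2 ha.symm)
          · exact Or.inr (by
              rw [MulAut.inv_def]
              refine (MulEquiv.symm_apply_eq _).2 ?_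
              rw [map_inv, ha, inv_inv]) }
    set S := stabilizer H ((v : G) • α) with hS
    have hSK : S ≤ K := fun x hx => Or.inl ((hstab x v).2 hx)
    have hKtop : K = ⊤ := by
      rcases (hcoatom v hv1).le_iff.1 hSK with h1 | h1
      · exact h1
      · have htS : t ∈ S := h1.le (Or.inr hinv : t ∈ K)
        exact absurd (hinv.symm.trans ((hstab t v).2 htS)) hvv
    have hall : ∀ h : H, MulAut.conjNormal (h : G) v = v ∨ MulAut.conjNormal (h : G) v = v⁻¹ :=
      fun h => (hKtop ▸ mem_top h : h ∈ K)
    have hfix : ∀ x : H, MulAut.conjNormal (x : G) v = v → x = 1 := by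
      have hSn : S.Normal := by
        refine ⟨fun s hs x => (hstab _ v).1 ?_⟩
        have hsv := (hstab s v).2 hs
        rw [Subgroup.coe_mul, Subgroup.coe_mul, map_mul, map_mul, MulAut.mul_apply, MulAut.mul_apply]
        rcases hall x⁻¹ with h1 | h1 <;> rw [h1]
        · rw [hsv]
          have := hall x
          calc MulAut.conjNormal (x : G) v = MulAut.conjNormal (x : G) (MulAut.conjNormal ((x⁻¹ : H) : G) v) := by rw [h1]
            _ = v := by rw [← MulAut.mul_apply, ← map_mul, ← Subgroup.coe_mul, mul_inv_cancel,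
                OneMemClass.coe_one, map_one, MulAut.one_apply]
        · rw [map_inv, hsv]
          calc MulAut.conjNormal (x : G) v⁻¹ = MulAut.conjNormal (x : G) (MulAut.conjNormal ((x⁻¹ : H) : G) v) := by rw [h1]
            _ = v := by rw [← MulAut.mul_apply, ← map_mul, ← Subgroup.coe_mul, mul_inv_cancel,
                OneMemClass.coe_one, map_one, MulAut.one_apply]
      have hbot := hcore S hSn v hv1 le_rfl
      exact fun x hx => Subgroup.mem_bot.1 (hbot ▸ (hstab x v).1 hx)
    have hsq : ∀ x : H, x * x = 1 := fun x => hfix _ (by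
      rw [Subgroup.coe_mul, map_mul, MulAut.mul_apply]
      rcases hall x with h1 | h1 <;> rw [h1]
      · exact h1
      · rw [map_inv, h1, inv_inv])
    exact hHns (Group.isSolvable_of_comm fun a b => by
      have ha : a⁻¹ = a := inv_eq_of_mul_eq_one_right (hsq a)
      have hb : b⁻¹ = b := inv_eq_of_mul_eq_one_right (hsq b)
      calc a * b = (a * b)⁻¹ := (inv_eq_of_mul_eq_one_right (hsq (a * b))).symm
        _ = b * a := by rw [mul_inv_rev, ha, hb])
  refine ⟨hp2, ?_⟩
  subst hp2
  letI : AddCommGroup (Additive N) :=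
    @Additive.addCommGroup N { (inferInstance : Group N) with mul_comm := hcom }
  letI := conjAct H N hcom
  haveI : Nontrivial (Additive N) :=
    haveI := (Subgroup.nontrivial_iff_ne_bot N).2 hN
    Additive.toMul.nontrivial
  have hst : ∀ x : Additive N, stabilizer H x = stabilizer H (((Additive.toMul x : N) : G) • α) := by
    intro x
    ext h
    rw [← hstab, mem_stabilizer_iff]
    exact ⟨fun e => congrArg Additive.toMul e, fun e => congrArg Additive.ofMul e⟩
  refine Hyp.almost_simple (W := Additive N) ⟨fun x => ?_, fun x hx => ?_, fun K hK x hx hle => ?_⟩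
    hFT hHns
  · refine Additive.toMul.injective (Subtype.ext ?_)
    have := hpow _ (Additive.toMul x).2
    rw [sq] at this
    exact this
  · rw [hst]
    exact hcoatom _ (fun e => hx (Additive.toMul.injective e))
  · rw [hst] at hle
    exact hcore K hK _ (fun e => hx (Additive.toMul.injective e)) hle

end CfsgLib.ExtPrimAffine
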