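import Cfsg.Prelude.Def_Solvable
import Cfsg.Agent.Lib.Frobenius.Theorem
import Cfsg.Agent.Lib.Semilinear.NormalAbelian

/-!
Groups acting on an elementary abelian 2-group with core-free maximal stabilisers of all nonzero
vectors: solvable or almost simple (given solvability in odd order).
-/

set_option autoImplicit false
set_option linter.style.haveILetI false
set_option linter.unusedSectionVars false

namespace CfsgLib.ExtPrimAffine

open MulAction Subgroup
open scoped Pointwise

universe u

variable {H : Type u} [Group H] [Finite H] {W : Type u} [AddCommGroup W] [Finite W]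
  [DistribMulAction H W]

variable (H W) in
/-- Nonzero vectors have core-free maximal stabilisers, in characteristic two. -/
structure Hyp : Prop where
  two : ∀ x : W, x + x = 0
  coatom : ∀ v : W, v ≠ 0 → IsCoatom (stabilizer H v)
  core : ∀ (K : Subgroup H), K.Normal → ∀ v : W, v ≠ 0 → K ≤ stabilizer H v → K = ⊥

namespace Hyp

variable (h : Hyp H W)
include h

theorem neg_eq (x : W) : -x = x := neg_eq_of_add_eq_zero_left (h.two x)

/-- Nontrivial normal subgroups are transitive on each orbit. -/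
theorem transitive {K : Subgroup H} (hK : K.Normal) (hne : K ≠ ⊥) {v : W} (hv : v ≠ 0) (x : H) :
    ∃ k ∈ K, k • v = x • v := by
  have hsup : K ⊔ stabilizer H v = ⊤ := by
    rcases (h.coatom v hv).le_iff.1 (le_sup_right : stabilizer H v ≤ K ⊔ stabilizer H v) with h1 | h1
    · exact h1
    · exact absurd (h.core K hK v hv (h1 ▸ le_sup_left)) hne
  obtain ⟨k, hk, s, hs, rfl⟩ := Subgroup.mem_sup_of_normal_left.1 (hsup ▸ mem_top x)
  exact ⟨k, hk, by rw [mul_smul, mem_stabilizer_iff.1 hs]⟩

/-- An element fixing a whole orbit is trivial. -/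
theorem eq_one_of_fix_orbit {v : W} (hv : v ≠ 0) {k : H} (hk : ∀ x : H, k • x • v = x • v) : k = 1 := by
  have hmem : k ∈ (stabilizer H v).normalCore := fun x => by
    rw [mem_stabilizer_iff, mul_smul, mul_smul, hk, smul_inv_smul]
  rw [h.core _ (Subgroup.normalCore_normal _) v hv (Subgroup.normalCore_le _)] at hmem
  exact hmem

/-- A normal subgroup with nontrivial centralizer acts semiregularly. -/
theorem semiregular {K C : Subgroup H} (hC : C.Normal) (hCne : C ≠ ⊥)
    (hcomm : ∀ k ∈ K, ∀ c ∈ C, k * c = c * k) {v : W} (hv : v ≠ 0) {k : H} (hk : k ∈ K)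
    (hkv : k • v = v) : k = 1 := by
  refine h.eq_one_of_fix_orbit hv fun x => ?_
  obtain ⟨c, hc, hcx⟩ := h.transitive hC hCne hv x
  rw [← hcx, ← mul_smul, hcomm k hk c hc, mul_smul, hkv]

theorem exists_fixed [Nontrivial W] {t : H} (ht : t * t = 1) : ∃ v : W, v ≠ 0 ∧ t • v = v := by
  obtain ⟨w, hw⟩ := exists_ne (0 : W)
  by_cases htw : t • w = w
  · exact ⟨w, hw, htw⟩
  · refine ⟨w + t • w, fun h0 => htw ?_, ?_⟩
    · exact (eq_neg_of_add_eq_zero_right h0).trans (h.neg_eq w)
    · rw [smul_add, ← mul_smul, ht, one_smul, add_comm]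

/-- A normal subgroup of even order has trivial centralizer. -/
theorem centralizer_eq_bot [Nontrivial W] {K : Subgroup H} (hK : K.Normal) (he : Even (Nat.card K)) :
    centralizer (K : Set H) = ⊥ := by
  by_contra hC
  haveI := Fact.mk Nat.prime_two
  obtain ⟨t, ht⟩ := exists_prime_orderOf_dvd_card' (G := K) 2 (even_iff_two_dvd.1 he)
  rw [← Subgroup.orderOf_coe] at ht
  obtain ⟨v, hv, htv⟩ := h.exists_fixed (t := (t : H)) (by rw [← sq, ← ht, pow_orderOf_eq_one])
  have h1 := h.semiregular (K := K) (inferInstance : (centralizer (K : Set H)).Normal) hC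
    (fun k hk c hc => hc k hk) hv t.2 htv
  rw [h1, orderOf_one] at ht
  exact absurd ht (by norm_num)

/-- An abelian normal subgroup forces solvability. -/
theorem solvable_of_abelian [Nontrivial W] {A : Subgroup H} (hA : A.Normal) (hne : A ≠ ⊥)
    (hc : ∀ a ∈ A, ∀ b ∈ A, a * b = b * a) : Group.IsSolvable H := by
  obtain ⟨w, hw⟩ := exists_ne (0 : W)
  letI : DistribMulAction A W := inferInstance
  have hfree : ∀ v : W, v ≠ 0 → ∀ a : A, a • v = v → a = 1 := fun v hv a ha =>
    Subtype.ext (h.semiregular hA hne hc hv a.2 ha)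
  haveI hcyc : IsCyclic A := by
    have := CfsgLib.Semilinear.isCyclic_of_free hfree ⊤ (fun a _ b _ => Subtype.ext (hc a a.2 b b.2))
    exact (Subgroup.topEquiv (G := A)).isCyclic.1 this
  haveI := hA
  have hcen : centralizer (A : Set H) ≤ A := by
    intro c hcc
    obtain ⟨a, ha, hac⟩ := h.transitive hA hne hw c
    have h2 : a⁻¹ * c = 1 := by
      refine h.semiregular (K := centralizer (A : Set H)) hA hne (fun k hk b hb => (hk b hb).symm) hw
        (mul_mem (inv_mem (fun b hb => hc b hb a ha)) hcc) ?_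
      rw [mul_smul, ← hac, inv_smul_smul]
    rw [inv_mul_eq_one] at h2
    exact h2 ▸ ha
  haveI : Group.IsSolvable A := Group.isSolvable_of_comm fun a b => Subtype.ext (hc a a.2 b b.2)
  haveI : Group.IsSolvable (MulAut A) :=
    Group.isSolvable_of_comm fun a b => (IsCyclic.mulAutMulEquiv A).injective (by
      rw [map_mul, map_mul, mul_comm])
  refine Group.isSolvable_of_ker_le_range A.subtype (MulAut.conjNormal : H →* MulAut A) ?_
  rw [Subgroup.range_subtype]
  intro k hk
  refine hcen fun b hb => ?_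
  have h3 := congrArg Subtype.val (DFunLike.congr_fun hk ⟨b, hb⟩)
  rw [MulAut.conjNormal_apply, MulAut.one_apply] at h3
  exact (mul_inv_eq_iff_eq_mul.1 h3).symm

end Hyp

/-- A member of the family of factors: a conjugate of `N₁`. -/
def IsFactor (N₁ T : Subgroup H) : Prop := ∃ x : H, T = N₁.map (MulAut.conj x).toMonoidHom

/-- `N₁` is a minimal `M`-invariant subgroup of the normal subgroup `M`. -/
structure Factor (M N₁ : Subgroup H) : Prop where
  normal : M.Normal
  le : N₁ ≤ M
  ne : N₁ ≠ ⊥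
  inv : M ≤ normalizer (N₁ : Set H)
  min : ∀ L : Subgroup H, L ≤ N₁ → M ≤ normalizer (L : Set H) → L = ⊥ ∨ L = N₁

namespace Factor

variable {M N₁ : Subgroup H} (f : Factor M N₁)
include f

theorem self : IsFactor N₁ N₁ := ⟨1, by ext; simp⟩

theorem conj_factor {T : Subgroup H} (hT : IsFactor N₁ T) (x : H) :
    IsFactor N₁ (T.map (MulAut.conj x).toMonoidHom) := by
  obtain ⟨y, rfl⟩ := hT
  refine ⟨x * y, ?_⟩
  rw [Subgroup.map_map]
  congr 1
  ext z
  simp [MulAut.conj_apply, mul_assoc]

theorem of_factor {T : Subgroup H} (hT : IsFactor N₁ T) : Factor M T := by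
  obtain ⟨x, rfl⟩ := hT
  have hinj := (MulAut.conj x).injective
  have hMx : ∀ m ∈ M, x⁻¹ * m * x ∈ M := fun m hm => by
    simpa using f.normal.conj_mem m hm x⁻¹
  refine ⟨f.normal, ?_, ?_, ?_, ?_⟩
  · rintro _ ⟨t, ht, rfl⟩
    exact f.normal.conj_mem t (f.le ht) x
  · rw [Ne, Subgroup.map_eq_bot_iff_of_injective _ hinj]
    exact f.ne
  · intro m hm
    rw [← Subgroup.map_equiv_normalizer_eq]
    exact ⟨x⁻¹ * m * x, f.inv (hMx m hm), by simp [MulAut.conj_apply, mul_assoc]⟩
  · intro L hL hML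
    set L' := L.map (MulAut.conj x⁻¹).toMonoidHom with hL'
    have hback : L'.map (MulAut.conj x).toMonoidHom = L := by
      rw [hL', Subgroup.map_map]
      convert Subgroup.map_id L
      ext z; simp [MulAut.conj_apply, mul_assoc]
    have hle : L' ≤ N₁ := by
      rintro _ ⟨l, hl, rfl⟩
      obtain ⟨t, ht, htl⟩ := hL hl
      rw [← htl]
      simpa [MulAut.conj_apply, mul_assoc] using ht
    have hMn : M ≤ normalizer (L' : Set H) := by
      intro m hm
      rw [hL', ← Subgroup.map_equiv_normalizer_eq]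
      refine ⟨x * m * x⁻¹, hML (f.normal.conj_mem m hm x), by simp [MulAut.conj_apply, mul_assoc]⟩
    rcases f.min L' hle hMn with h1 | h1
    · exact Or.inl (by rw [← hback, h1, Subgroup.map_bot])
    · exact Or.inr (by rw [← hback, h1])

theorem commute {T T' : Subgroup H} (hT : IsFactor N₁ T) (hT' : IsFactor N₁ T') (hne : T ≠ T') :
    ∀ a ∈ T, ∀ b ∈ T', a * b = b * a := by
  have fT := f.of_factor hT
  have fT' := f.of_factor hT'
  have hn : M ≤ normalizer ((T ⊓ T' : Subgroup H) : Set H) := fun m hm =>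
    Subgroup.mem_normalizer_fintype fun y hy =>
      ⟨(Subgroup.mem_normalizer_iff.1 (fT.inv hm) y).1 hy.1,
        (Subgroup.mem_normalizer_iff.1 (fT'.inv hm) y).1 hy.2⟩
  have hbot : T ⊓ T' = ⊥ := by
    rcases fT.min _ inf_le_left hn with h1 | h1
    · exact h1
    · exfalso
      rcases fT'.min _ inf_le_right hn with h2 | h2
      · exact fT.ne (h1 ▸ h2)
      · exact hne (h1.symm.trans h2)
  intro a ha b hb
  have h1 : a * b * a⁻¹ * b⁻¹ ∈ T ⊓ T' := by
    refine Subgroup.mem_inf.2 ⟨?_, ?_⟩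
    · rw [mul_assoc a b, mul_assoc a]
      exact mul_mem ha ((Subgroup.mem_normalizer_iff.1 (fT.inv (fT'.le hb)) a⁻¹).1 (inv_mem ha))
    · exact mul_mem ((Subgroup.mem_normalizer_iff.1 (fT'.inv (fT.le ha)) b).1 hb) (inv_mem hb)
  rw [hbot, mem_bot] at h1
  exact mul_inv_eq_iff_eq_mul.1 (mul_inv_eq_one.1 h1)

end Factor

variable {M N₁ : Subgroup H}

namespace Hyp

variable (h : Hyp H W) (f : Factor M N₁)
include h f

/-- A factor fixes no nonzero vector. -/
theorem not_le_stabilizer {T : Subgroup H} (hT : IsFactor N₁ T) {u : W} (hu : u ≠ 0)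
    (hle : T ≤ stabilizer H u) : False := by
  have fT := f.of_factor hT
  apply fT.ne
  rw [Subgroup.eq_bot_iff_forall]
  intro t ht
  refine h.eq_one_of_fix_orbit hu fun x => ?_
  have hMne : M ≠ ⊥ := fun hb => fT.ne (le_bot_iff.1 (hb ▸ fT.le))
  obtain ⟨m, hm, hmx⟩ := h.transitive f.normal hMne hu x
  rw [← hmx]
  have h1 : m⁻¹ * t * m ∈ T := by
    simpa using (Subgroup.mem_normalizer_iff.1 (fT.inv (inv_mem hm)) t).1 ht
  have h2 := mem_stabilizer_iff.1 (hle h1)
  rwa [mul_smul, mul_smul, inv_smul_eq_iff] at h2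

/-- If a vector is fixed by a nontrivial element of a factor, its stabiliser splits. -/
theorem fix_left {u : W} (hu : u ≠ 0) {T₀ : Subgroup H} (hT₀ : IsFactor N₁ T₀)
    (hne : stabilizer H u ⊓ T₀ ≠ ⊥) {T₁ T₂ : Subgroup H} (hT₁ : IsFactor N₁ T₁) (hT₂ : IsFactor N₁ T₂)
    (h12 : T₁ ≠ T₂) {a b : H} (ha : a ∈ T₁) (hb : b ∈ T₂) (hab : (a * b) • u = u) : a • u = u := by
  set B := M ⊓ ⨅ T : {T : Subgroup H // IsFactor N₁ T},
    normalizer ((stabilizer H u ⊓ (T : Subgroup H) : Subgroup H) : Set H) with hB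
  have hself : ∀ {T : Subgroup H}, IsFactor N₁ T → ∀ m ∈ M, m • u = u →
      m ∈ normalizer ((stabilizer H u ⊓ T : Subgroup H) : Set H) := by
    intro T hT m hm hmu
    exact Subgroup.mem_normalizer_fintype fun y hy =>
      ⟨(Subgroup.mem_normalizer_iff.1 (Subgroup.le_normalizer (show m ∈ stabilizer H u from hmu)) y).1 hy.1,
        (Subgroup.mem_normalizer_iff.1 ((f.of_factor hT).inv hm) y).1 hy.2⟩
  have hnorm : stabilizer H u ≤ normalizer (B : Set H) := by
    intro s hs
    refine Subgroup.mem_normalizer_fintype fun y hy => ⟨f.normal.conj_mem y hy.1 s, ?_⟩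
    refine Subgroup.mem_iInf.2 fun T => ?_
    have hT' := f.conj_factor T.2 s⁻¹
    have hy' := Subgroup.mem_iInf.1 hy.2 ⟨_, hT'⟩
    have hmap : (stabilizer H u ⊓ (T : Subgroup H).map (MulAut.conj s⁻¹).toMonoidHom).map
        (MulAut.conj s).toMonoidHom = stabilizer H u ⊓ (T : Subgroup H) := by
      rw [Subgroup.map_inf _ _ _ (MulAut.conj s).injective, Subgroup.map_map]
      congr 1
      · refine le_antisymm ?_ fun z hz => ⟨s⁻¹ * z * s, mul_mem (mul_mem (inv_mem hs) hz) hs,
          by simp [MulAut.conj_apply, mul_assoc]⟩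
        rintro _ ⟨z, hz, rfl⟩
        exact (stabilizer H u).mul_mem ((stabilizer H u).mul_mem hs hz) ((stabilizer H u).inv_mem hs)
      · convert Subgroup.map_id (T : Subgroup H)
        ext z; simp [MulAut.conj_apply, mul_assoc]
    rw [← hmap, ← Subgroup.map_equiv_normalizer_eq]
    exact ⟨y, hy', rfl⟩
  have hBle : B ≤ stabilizer H u := by
    rcases (h.coatom u hu).le_iff.1 (le_sup_right : stabilizer H u ≤ B ⊔ stabilizer H u) with h1 | h1
    · exfalso
      have hMB : M ≤ normalizer ((stabilizer H u ⊓ T₀ : Subgroup H) : Set H) := by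
        intro m hm
        have hm' : m ∈ ((B ⊔ stabilizer H u : Subgroup H) : Set H) := by rw [h1]; exact mem_top m
        rw [Subgroup.coe_mul_of_right_le_normalizer_left _ _ hnorm] at hm'
        obtain ⟨y, hy, s, hs, rfl⟩ := hm'
        have hsM : s ∈ M := by
          have := mul_mem (inv_mem (show y ∈ M from hy.1)) hm
          rwa [inv_mul_cancel_left] at this
        exact mul_mem (Subgroup.mem_iInf.1 hy.2 ⟨T₀, hT₀⟩) (hself hT₀ s hsM hs)
      rcases (f.of_factor hT₀).min _ inf_le_right hMB with h2 | h2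
      · exact hne h2
      · exact h.not_le_stabilizer f hT₀ hu (h2 ▸ inf_le_left)
    · exact h1 ▸ le_sup_left
  have haM : a ∈ M := (f.of_factor hT₁).le ha
  refine hBle ⟨haM, Subgroup.mem_iInf.2 fun T => ?_⟩
  by_cases hT : (T : Subgroup H) = T₁
  · have h1 := hself T.2 (a * b) (mul_mem haM ((f.of_factor hT₂).le hb)) hab
    have h2 : b ∈ normalizer ((stabilizer H u ⊓ (T : Subgroup H) : Subgroup H) : Set H) := by
      apply Subgroup.centralizer_le_normalizer
      intro y hy
      exact f.commute T.2 hT₂ (hT ▸ h12) y hy.2 b hb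
    simpa using mul_mem h1 (inv_mem h2)
  · apply Subgroup.centralizer_le_normalizer
    intro y hy
    exact f.commute T.2 hT₁ hT y hy.2 a ha

/-- The sum over an orbit of a cyclic group is fixed. -/
theorem smul_orbit_sum {r : ℕ} {a : H} {v : W} (ha : a ^ r • v = v) :
    a • (∑ i ∈ Finset.range r, a ^ i • v) = ∑ i ∈ Finset.range r, a ^ i • v := by
  rw [Finset.smul_sum]
  have h1 := Finset.sum_range_succ' (fun i => a ^ i • v) r
  rw [Finset.sum_range_succ, ha, pow_zero, one_smul] at h1
  simp only [← mul_smul, ← pow_succ']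
  exact (add_right_cancel h1).symm

/-- The commutator operator of two factor elements kills the vector. -/
theorem double_kill {T₁ T₂ : Subgroup H} (hT₁ : IsFactor N₁ T₁) (hT₂ : IsFactor N₁ T₂)
    (h12 : T₁ ≠ T₂) {v : W} {Y : Subgroup H} (hY : Y ≤ stabilizer H v ⊓ T₁) (hYne : Y ≠ ⊥)
    {g b : H} (hg : g ∈ T₁) (hgY : g ∈ normalizer (Y : Set H)) {r : ℕ} (hr : r.Prime)
    (hgr : g ^ r • v = v) (hb : b ∈ T₂) (hbr : b ^ r = 1) :
    b • (g • v + v) = g • v + v := by
  have hgb : Commute g b := f.commute hT₁ hT₂ h12 g hg b hb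
  -- each orbit sum is fixed by `g`
  have hu : ∀ j : ℕ, g • (∑ i ∈ Finset.range r, (g * b ^ j) ^ i • v) =
      ∑ i ∈ Finset.range r, (g * b ^ j) ^ i • v := by
    intro j
    set u := ∑ i ∈ Finset.range r, (g * b ^ j) ^ i • v with hu
    rcases eq_or_ne u 0 with hu0 | hu0
    · rw [hu0, smul_zero]
    have hfix : (g * b ^ j) • u = u := h.smul_orbit_sum f (by
      rw [(hgb.pow_right j).mul_pow, ← pow_mul, mul_comm j r, pow_mul, hbr, one_pow, mul_one, hgr])
    refine h.fix_left f hu0 hT₁ ?_ hT₁ hT₂ h12 hg (pow_mem hb j) hfix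
    obtain ⟨y, hy⟩ := Subgroup.ne_bot_iff_exists_ne_one.1 hYne
    intro hbot
    apply hy
    have hyu : (y : H) ∈ stabilizer H u ⊓ T₁ := by
      refine ⟨?_, (hY y.2).2⟩
      show (y : H) • u = u
      rw [hu, Finset.smul_sum]
      refine Finset.sum_congr rfl fun i _ => ?_
      have hn : (g * b ^ j) ^ i ∈ normalizer (Y : Set H) := by
        refine pow_mem (mul_mem hgY (pow_mem ?_ j)) i
        apply Subgroup.centralizer_le_normalizer
        intro z hz
        exact f.commute hT₁ hT₂ h12 z (hY hz).2 b hb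
      have h1 : ((g * b ^ j) ^ i)⁻¹ * y * (g * b ^ j) ^ i ∈ stabilizer H v := by
        have := (Subgroup.mem_normalizer_iff.1 (inv_mem hn) (y : H)).1 y.2
        rw [inv_inv] at this
        exact (hY this).1
      rw [mem_stabilizer_iff, mul_smul, mul_smul, inv_smul_eq_iff] at h1
      exact h1
    rw [hbot, mem_bot] at hyu
    exact Subtype.ext hyu
  rcases hr.eq_two_or_odd' with rfl | hodd
  · have h1 := hu 1
    rw [Finset.sum_range_succ, Finset.sum_range_one, pow_zero, one_smul, pow_one, pow_one] at h1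
    have h2 : g • (g * b) • v = b • v := by
      rw [← mul_smul, ← mul_assoc, ← sq, show g ^ 2 * b = b * g ^ 2 from (hgb.pow_left 2).eq,
        mul_smul, hgr]
    rw [smul_add, h2] at h1
    rw [smul_add, ← mul_smul, ← hgb.eq]
    rw [← sub_eq_zero] at h1 ⊢
    rw [sub_eq_add_neg, h.neg_eq] at h1 ⊢
    rw [← h1]; abel
  · -- sum over all `j`
    have hsum : g • (∑ j ∈ Finset.range r, ∑ i ∈ Finset.range r, (g * b ^ j) ^ i • v) =
        ∑ j ∈ Finset.range r, ∑ i ∈ Finset.range r, (g * b ^ j) ^ i • v := by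
      rw [Finset.smul_sum]
      exact Finset.sum_congr rfl fun j _ => hu j
    rw [Finset.sum_comm] at hsum
    set Q : ℕ → W := fun i => ∑ j ∈ Finset.range r, (b ^ i) ^ j • v with hQ
    have hQi : ∀ i, (∑ j ∈ Finset.range r, (g * b ^ j) ^ i • v) = g ^ i • Q i := by
      intro i
      rw [hQ, Finset.smul_sum]
      refine Finset.sum_congr rfl fun j _ => ?_
      rw [(hgb.pow_right j).mul_pow, mul_smul, ← pow_mul, ← pow_mul, mul_comm]
    simp only [hQi] at hsum
    have hrv : ∀ x : W, (∑ _j ∈ Finset.range r, x) = x := fun x => by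
      obtain ⟨l, rfl⟩ := hodd
      rw [Finset.sum_const, Finset.card_range, add_smul, mul_smul, two_nsmul, h.two, zero_add, one_smul]
    -- apply `b` and add
    have hQb : ∀ i, ¬ r ∣ i → b • Q i = Q i := by
      intro i hi
      have h1 : b ^ i • Q i = Q i := h.smul_orbit_sum f (by
        rw [← pow_mul, mul_comm, pow_mul, hbr, one_pow, one_smul])
      obtain ⟨l, hl⟩ := exists_pow_eq_self_of_coprime (n := i) (x := b)
        (((hr.coprime_iff_not_dvd).2 hi).symm.coprime_dvd_right (orderOf_dvd_of_pow_eq_one hbr))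
      have h2 : (b ^ i) ^ l • Q i = Q i := by
        clear hl
        induction l with
        | zero => rw [pow_zero, one_smul]
        | succ l ihl => rw [pow_succ, mul_smul, h1, ihl]
      rwa [hl] at h2
    set S := ∑ i ∈ Finset.range r, g ^ i • Q i with hS
    have hQ0 : Q 0 = v := by
      simp only [hQ, pow_zero, one_pow, one_smul]
      exact hrv v
    have hbS : b • S + S = b • v + v := by
      rw [hS, Finset.smul_sum, ← Finset.sum_add_distrib]
      rw [Finset.sum_eq_single_of_mem 0 (Finset.mem_range.2 hr.pos)]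
      · rw [pow_zero, one_smul, hQ0]
      · intro i hi hi0
        rw [← mul_smul, ← (hgb.pow_left i).eq, mul_smul,
          hQb i (fun hd => hi0 (Nat.eq_zero_of_dvd_of_lt hd (Finset.mem_range.1 hi))), h.two]
    have hgS : g • (b • S + S) = b • S + S := by
      rw [smul_add, ← mul_smul, hgb.eq, mul_smul, hsum]
    rw [hbS, smul_add, ← mul_smul, hgb.eq, mul_smul] at hgS
    rw [smul_add]
    rw [← sub_eq_zero] at hgS ⊢
    rw [sub_eq_add_neg, h.neg_eq] at hgS ⊢
    rw [← hgS]; abel

/-- Normalisers of nontrivial subgroups of a fixed-point stabiliser stay inside it. -/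
theorem good {T₁ T₂ : Subgroup H} (hT₁ : IsFactor N₁ T₁) (hT₂ : IsFactor N₁ T₂) (h12 : T₁ ≠ T₂)
    {v : W} {Y : Subgroup H} (hY : Y ≤ stabilizer H v ⊓ T₁) (hYne : Y ≠ ⊥) :
    ∀ g : H, g ∈ T₁ → g ∈ normalizer (Y : Set H) → g • v = v := by
  suffices H0 : ∀ (n : ℕ) (g : H), orderOf g = n → g ∈ T₁ → g ∈ normalizer (Y : Set H) → g • v = v from
    fun g => H0 _ g rfl
  intro n
  induction n using Nat.strong_induction_on with
  | _ n ih =>
    intro g hn hg hgY
    by_cases hn1 : n = 1
    · rw [orderOf_eq_one_iff.1 (hn.trans hn1), one_smul]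
    obtain ⟨r, hr, hrn⟩ := Nat.exists_prime_and_dvd hn1
    have hn0 : n ≠ 0 := hn ▸ (orderOf_pos g).ne'
    have hgr : g ^ r • v = v := by
      refine ih (n / r) (Nat.div_lt_self (Nat.pos_of_ne_zero hn0) hr.one_lt) (g ^ r) ?_
        (pow_mem hg r) (pow_mem hgY r)
      rw [orderOf_pow' g hr.ne_zero, hn, Nat.gcd_eq_right hrn]
    by_contra hne
    set x := g • v + v with hx
    have hx0 : x ≠ 0 := fun h0 => hne ((add_eq_zero_iff_eq_neg.1 h0).trans (h.neg_eq v))
    have hkill : ∀ b ∈ T₂, b ^ r = 1 → b • x = x := fun b hb hbr =>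
      h.double_kill f hT₁ hT₂ h12 hY hYne hg hgY hr hgr hb hbr
    set L := closure {b : H | b ∈ T₂ ∧ b ^ r = 1} with hL
    have fT := f.of_factor hT₂
    have hLT : L ≤ T₂ := (closure_le _).2 fun b hb => hb.1
    have hLn : M ≤ normalizer (L : Set H) := by
      intro m hm
      refine Subgroup.mem_normalizer_fintype fun y hy => ?_
      have hle : L ≤ L.comap (MulAut.conj m).toMonoidHom := (closure_le _).2 fun b hb =>
        subset_closure ⟨(Subgroup.mem_normalizer_iff.1 (fT.inv hm) b).1 hb.1, by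
          show (m * b * m⁻¹) ^ r = 1
          rw [conj_pow, hb.2, mul_one, mul_inv_cancel]⟩
      exact hle hy
    have hLne : L ≠ ⊥ := by
      haveI := Fact.mk hr
      obtain ⟨y, hy⟩ := hT₁
      obtain ⟨z, hz⟩ := hT₂
      have hcard : Nat.card T₂ = Nat.card T₁ := by
        rw [hy, hz, Subgroup.card_map_of_injective (MulAut.conj z).injective,
          Subgroup.card_map_of_injective (MulAut.conj y).injective]
      obtain ⟨b, hb⟩ := exists_prime_orderOf_dvd_card' (G := T₂) r (by
        rw [hcard]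
        exact hrn.trans (hn ▸ Subgroup.orderOf_dvd_natCard T₁ hg))
      intro hbot
      have hmem : (b : H) ∈ L := subset_closure ⟨b.2, by
        rw [← hb, ← Subgroup.orderOf_coe, pow_orderOf_eq_one]⟩
      rw [hbot, mem_bot] at hmem
      rw [← Subgroup.orderOf_coe, hmem, orderOf_one] at hb
      exact hr.one_lt.ne hb
    have hLeq : L = T₂ := (fT.min L hLT hLn).resolve_left hLne
    exact h.not_le_stabilizer f hT₂ hx0 (hLeq ▸ (closure_le _).2 fun b hb => hkill b hb.1 hb.2)

end Hyp

end CfsgLib.ExtPrimAffine
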